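import Cfsg.Agent.Mrg.Omega.NO3b.Closed.Inst
import Cfsg.Agent.Mrg.Omega.NO3b.K0.Abs
import Cfsg.Agent.Mrg.Omega.FrameI

section


/-!
# (NO) on an irreducible submodule for a minimal parabolic (for `ClosedPt.GoodAt`)

* `no_of_par` : `P` a minimal parabolic over its Sylow 2-subgroup `S`, `E` a `P`-irreducible elementary abelian
  subgroup not centralised by `O²(P)`, `O₂(P) ≤ C(V)` ⟹ `|ε : C_ε(V)| ≤ |E : C_E(ε)|` for elementary abelian `ε ≤ S`;
* `exists_good_of_par` : `ClosedPt.GoodAt` from this and `V = ⨁ U_i`, `U_i ≅ U_{i₀}` as `S`-modules.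
-/

set_option autoImplicit false

namespace Cfsg.Agent.Omega.NO3b.ClosedPow

open Subgroup Cfsg Cfsg.Agent.ZN Cfsg.Agent.ZN.ChoiceBase Cfsg.Agent.ZN.ChoiceSit
open Cfsg.Agent.MinSimple.MinParabolic (IsMinPar)
open Cfsg.Agent.MinSimple.VModule (oddGen oddGen_le mem_oddGen le_normalizer_oddGen oddGen_le_of_sup)
open Cfsg.Agent.Omega.NO3b.K0

universe u v

variable {G : Type u} [Group G] [Finite G]

theorem no_of_par (hA : FFBr.AStmt.{u}) {S P V E : Subgroup G} (hSyl : Syl S P) (hmin : IsMinPar S P)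
    (hEP : E ≤ P) (hsq : ∀ e ∈ E, e * e = 1) (hc : E ≤ centralizer (E : Set G)) (hPE : P ≤ normalizer (E : Set G))
    (irr : ∀ K : Subgroup G, K ≤ E → P ≤ normalizer (K : Set G) → K = ⊥ ∨ K = E)
    (hE : ¬ E ≤ centralizer (oddGen P : Set G)) (hV : o2 P ≤ centralizer (V : Set G)) {ε : Subgroup G}
    (hε : ε ≤ S) (hε2 : ∀ a ∈ ε, a * a = 1) :
    (centralizer (V : Set G)).relIndex ε ≤ (centralizer (ε : Set G)).relIndex E := by
  have h1 := noOv hA hSyl hmin ⊥ E ε (E ⊓ centralizer (ε : Set G)) bot_le hEP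
    (fun y hy => by rw [pow_two]; exact hsq y hy) hc
    (by
      intro x _
      rw [mem_normalizer_iff]
      intro y
      rw [mem_bot, mem_bot]
      constructor
      · rintro rfl; group
      · intro h0
        have e : y = x⁻¹ * (x * y * x⁻¹) * x := by group
        rw [e, h0]; group) hPE
    (fun K _ hK hPK => irr K hK hPK)
    (fun h0 => hE (commutator_eq_bot_iff_le_centralizer.1 (le_bot_iff.1 h0)))
    (hε.trans hSyl.1) (fun a ha => by rw [pow_two, hε2 a ha]; exact one_mem _)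
    (fun a ha b hb => by
      have h2 := hε2 _ (mul_mem ha hb)
      have e : a * b * a⁻¹ * b⁻¹ = 1 := by
        have ea : a⁻¹ = a := inv_eq_of_mul_eq_one_left (hε2 a ha)
        have eb : b⁻¹ = b := inv_eq_of_mul_eq_one_left (hε2 b hb)
        rw [ea, eb, mul_assoc (a * b)]
        exact h2
      rw [e]; exact one_mem _) inf_le_left
    (le_of_eq (commutator_eq_bot_iff_le_centralizer.2 (by
      intro x hx
      exact hx.2)))
  rw [inf_relIndex_left] at h1
  exact (relIndex_le_of_le_left hV index_ne_zero_of_finite).trans h1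

/-- **`ClosedPt.GoodAt` from `V = ⨁ U_i` over a minimal parabolic.** -/
theorem exists_good_of_par (hA : FFBr.AStmt.{u}) {ι : Type v} [Finite ι] {S P V D : Subgroup G}
    {U : ι → Subgroup G} (i₀ : ι) (hk : 2 ≤ Nat.card ι) (hSyl : Syl S P) (hmin : IsMinPar S P)
    (hS : ∀ i, S ≤ normalizer (U i : Set G)) (hVc : V ≤ centralizer (V : Set G)) (hsq : ∀ v ∈ V, v * v = 1)
    (hind : iSupIndep U) (hsup : ⨆ i, U i = V) (f : ∀ i, U i₀ ≃* U i)
    (hf : ∀ i, ∀ s ∈ S, ∀ u u' : U i₀, (u' : G) = s * u * s⁻¹ → (f i u' : G) = s * f i u * s⁻¹)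
    (hVS : V ≤ P) (hP : P ≤ normalizer (U i₀ : Set G))
    (irr : ∀ K : Subgroup G, K ≤ U i₀ → P ≤ normalizer (K : Set G) → K = ⊥ ∨ K = U i₀)
    (hE : ¬ U i₀ ≤ centralizer (oddGen P : Set G)) (hV : o2 P ≤ centralizer (V : Set G))
    (hne : D ≠ V) (hclo : ∀ w, w ∈ D ↔ w ∈ V ∧ ∀ t ∈ S ⊓ centralizer (D : Set G), t * w = w * t) :
    ∃ lam T₀ : Subgroup G, ClosedPt.GoodAt (S ⊓ centralizer (D : Set G)) V D lam T₀ := by
  obtain ⟨p, h⟩ := Pow.of_indep i₀ hS hVc hind hsup f hf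
  have hUV : U i₀ ≤ V := hsup ▸ le_iSup U i₀
  refine exists_good h hk hSyl.2.1 hsq (fun ε hε hε2 => ?_) hne hclo
  exact no_of_par hA hSyl hmin (hUV.trans hVS) (fun e he => hsq e (hUV he))
    ((hUV.trans hVc).trans (centralizer_le hUV)) hP irr hE hV hε hε2

end Cfsg.Agent.Omega.NO3b.ClosedPow

end

section


/-!
# (C)(2) of GammaFF, part 6: `V_P = E^k`, `k ≥ 2`, is not FF (helper194, #20969 (f4))

* `false_of_pow` : `P ∈ P*(S)`, `V_P = ⨁ E_j`, at least two summands, irreducible, not centralised by `O²(P)`,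
  isomorphic as `S`-groups: no subgroup of `S` offends on `V_P`.
-/

set_option autoImplicit false

namespace Cfsg.Agent.Omega.NO3b.CTwoFF

open Subgroup Cfsg
open Cfsg.Agent.ZN (o2 zc zl jj zj)
open Cfsg.Agent.ZN.ChoiceBase hiding mem_zc
open Cfsg.Agent.ZN.ChoiceSit (Syl o2_le_syl)
open Cfsg.Agent.Omega.MinPar
open Cfsg.Agent.Omega.FFThm (ElemM OffM)
open Cfsg.Agent.MinSimple.EmptyTI (syl_of_le)
open Cfsg.Agent.MinSimple.VModule (oddGen oddGen_le le_normalizer_zl zc_comm zc_sq)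
open Cfsg.Agent.Omega.NO3b.ClosedPow (Pow)

universe u

variable {G : Type u} [Group G] [Finite G] {S : Sylow 2 G} {P : Subgroup G}

theorem false_of_pow (hA : FFBr.AStmt.{u}) (hc : IsCharacteristicTwoType G) (hP : IsParS (S : Subgroup G) P)
    {k : ℕ} (hk : 2 ≤ k) {E : Fin k → Subgroup G} (hind : iSupIndep E) (hsup : (⨆ j, E j) = zl (S : Subgroup G) P)
    (hPE : ∀ j, P ≤ normalizer (E j : Set G))
    (hirr : ∀ j, ∀ A : Subgroup G, A ≤ E j → P ≤ normalizer (A : Set G) → A = ⊥ ∨ A = E j)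
    (hmv : ∀ j, ¬ E j ≤ centralizer (oddGen P : Set G))
    (hiso : ∀ i j, ∃ f : E i ≃* E j, ∀ s ∈ (S : Subgroup G), ∀ v w : E i, (w : G) = s * v * s⁻¹ →
      (f w : G) = s * f v * s⁻¹)
    {A : Subgroup G} (hAS : A ≤ (S : Subgroup G)) (hoff : OffM (zl (S : Subgroup G) P) A) : False := by
  have hcom : zl (S : Subgroup G) P ≤ centralizer (zl (S : Subgroup G) P : Set G) := by
    intro x hx
    rw [mem_centralizer_iff]
    intro y hy
    exact zc_comm _ _ (hP.isLoc.zl_le S hc hy) _ (hP.isLoc.zl_le S hc hx)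
  have hsq : ∀ v ∈ zl (S : Subgroup G) P, v ^ 2 = 1 := fun v hv => zc_sq _ v (hP.isLoc.zl_le S hc hv)
  let i₀ : Fin k := ⟨0, by omega⟩
  choose f hf using fun j => hiso i₀ j
  obtain ⟨p, h⟩ := Pow.of_indep (S := (S : Subgroup G)) i₀ (fun j => hP.le.trans (hPE j)) hcom hind hsup f
    (fun j s hs u u' e => hf j s hs u u' e)
  have hEV : E i₀ ≤ zl (S : Subgroup G) P := hsup ▸ le_iSup E i₀
  have hVS : zl (S : Subgroup G) P ≤ P := ((hP.isLoc.zl_le S hc).trans (MinSimple.VModule.zc_le _)).trans (MinSimple.VModule.o2_le P)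
  have ho2 : (S : Subgroup G) ⊓ centralizer (zl (S : Subgroup G) P : Set G) = o2 P :=
    IsParS.inf_centralizer S hc hP
  have hmem : ∀ g ∈ (S : Subgroup G), g ∈ centralizer (zl (S : Subgroup G) P : Set G) → g ∈ o2 P :=
    fun g h1 h2 => ho2 ▸ ⟨h1, h2⟩
  -- `|A : C_A(V_P)| ≤ |E : C_E(A)|`
  have h1 := K0.noOv hA (syl_of_le hP.le) hP.toIsMinPar ⊥ (E i₀) A (E i₀ ⊓ centralizer (A : Set G)) bot_le
    (hEV.trans hVS) (fun y hy => hsq y (hEV hy)) ((hEV.trans hcom).trans (centralizer_le hEV))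
    (by
      intro x _
      rw [mem_normalizer_iff]
      intro y
      rw [mem_bot, mem_bot]
      constructor
      · rintro rfl; group
      · intro h0
        have e : y = x⁻¹ * (x * y * x⁻¹) * x := by group
        rw [e, h0]; group) (hPE i₀)
    (fun K _ hK hPK => hirr i₀ K hK hPK)
    (fun h0 => hmv i₀ (commutator_eq_bot_iff_le_centralizer.1 (le_bot_iff.1 h0)))
    (hAS.trans hP.le) (fun a ha => hmem _ (pow_mem (hAS ha) 2) (hoff.sq a ha))
    (fun a ha b hb => hmem _ (mul_mem (mul_mem (mul_mem (hAS ha) (hAS hb)) (inv_mem (hAS ha))) (inv_mem (hAS hb)))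
      (hoff.comm a ha b hb)) inf_le_left
    (le_of_eq (commutator_eq_bot_iff_le_centralizer.2 fun x hx => hx.2))
  rw [inf_relIndex_left] at h1
  have h2 : (centralizer (zl (S : Subgroup G) P : Set G)).relIndex A ≤ (o2 P).relIndex A :=
    relIndex_le_of_le_left (by rw [← ho2]; exact inf_le_right) index_ne_zero_of_finite
  have h3 := FFThm.relIndex_le_iff.1 hoff.le
  rw [h.index_cent hAS] at h3
  have h4 := (h3.trans h2).trans h1
  rw [Nat.card_eq_fintype_card, Fintype.card_fin] at h4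
  set e : ℕ := (centralizer (A : Set G)).relIndex (E i₀) with he
  have he0 : e ≠ 0 := index_ne_zero_of_finite
  have he1 : e = 1 := by
    by_contra hne
    have h5 : 2 ≤ e := by omega
    have h6 : e ^ 1 < e ^ k := Nat.pow_lt_pow_right h5 (by omega)
    rw [pow_one] at h6
    omega
  have h7 : (centralizer (A : Set G)).relIndex (zl (S : Subgroup G) P) = 1 := by
    rw [h.index_cent hAS, ← he, he1, one_pow]
  exact hoff.ne (le_centralizer_iff.1 (relIndex_eq_one.1 h7))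

end Cfsg.Agent.Omega.NO3b.CTwoFF

end
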