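import Cfsg.Agent.Mrg.Omega.NO3b.EZeroBase
import Cfsg.Agent.PLocal.OffenderStep

section


/-!
# #19499 (helper768), NotFF (c), wreathed + fields: the interface

* `Flag S Z V` : the flag: `S` Sylow in `C = C_G(Z)`, `V ≤ O₂(C)`, `W = ⟨V^C⟩` elementary abelian,
  `C_V(S) = Z` (`fixV`) and `C_W(S) ∩ C(C_G(V))` is centralised by `C` (`fixC`; helper133, #21097: the extra
  hypothesis `C(C_G(V))` is for [R-z]; 554 / 506: the split form is for the base point `Z₁ = C_V(S₁)`).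
  `Flag.of_fix` : from `C_W(S) ∩ C(C_G(V)) = Z`;
* `RR S Z V D` : `Z ≤ D ≤ V`, `T_D = C_S(D)` is Sylow in `C_G(D)`, `C_W(T_D) ∩ C(C_G(V))` is centralised by
  `C_G(D)`;
* `Clo S Z V D` : closed point: in addition `D = C_V(T_D)`;
* `InL T w d` : `d ∈ L(w) = [T, w]`;
* `GoodAt T V D lam T₀` : the good set `lam` of a closed point `D ≠ V`, `T = T_D` (helper554, #20057 (1'), (*')).
-/

set_option autoImplicit false

namespace Cfsg.Agent.Omega.NO3b.ClosedPt

open Subgroup Cfsg Cfsg.Agent.ZN Cfsg.Agent.ZN.ChoiceBase Cfsg.Agent.ZN.ChoiceSit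
open Cfsg.Agent.Omega.NO3b.EZero

universe u

variable {G : Type u} [Group G]

/-- a 2-group acting on a nontrivial 2-group has a nontrivial fixed point -/
theorem exists_fixed [Finite G] {A Q : Subgroup G} (hA : IsPGroup 2 A) (hA1 : A ≠ ⊥) (hQ : IsPGroup 2 Q)
    (hn : Q ≤ normalizer (A : Set G)) : ∃ c ∈ A, c ≠ 1 ∧ c ∈ centralizer (Q : Set G) := by
  have hf : Fact (Nat.Prime 2) := ⟨Nat.prime_two⟩
  have h1 := PLocal.OffenderStep.inf_centralizer_ne_bot A Q hA hQ hn hA1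
  obtain ⟨c, hc1⟩ := Subgroup.ne_bot_iff_exists_ne_one.1 h1
  exact ⟨c, c.2.1, fun h0 => hc1 (Subtype.ext h0), c.2.2⟩

/-- the flag -/
structure Flag (S Z V : Subgroup G) : Prop where
  syl : Syl S (centralizer (Z : Set G))
  ZV : Z ≤ V
  SV : S ≤ normalizer (V : Set G)
  Vo : V ≤ o2 (centralizer (Z : Set G))
  comm : cl V (centralizer (Z : Set G)) ≤ centralizer (cl V (centralizer (Z : Set G)) : Set G)
  sq : ∀ v ∈ V, v * v = 1
  fixC : ∀ w ∈ cl V (centralizer (Z : Set G)), (∀ s ∈ S, s * w = w * s) →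
    (∀ y ∈ centralizer (V : Set G), y * w = w * y) → ∀ c ∈ centralizer (Z : Set G), c * w = w * c
  fixV : ∀ v ∈ V, (∀ s ∈ S, s * v = v * s) → v ∈ Z

/-- the flag from `C_W(S) ∩ C(C_G(V)) = Z` -/
theorem Flag.of_fix {S Z V : Subgroup G} (syl : Syl S (centralizer (Z : Set G))) (ZV : Z ≤ V)
    (SV : S ≤ normalizer (V : Set G)) (Vo : V ≤ o2 (centralizer (Z : Set G)))
    (comm : cl V (centralizer (Z : Set G)) ≤ centralizer (cl V (centralizer (Z : Set G)) : Set G))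
    (sq : ∀ v ∈ V, v * v = 1)
    (fix : ∀ w ∈ cl V (centralizer (Z : Set G)), (∀ s ∈ S, s * w = w * s) →
      (∀ y ∈ centralizer (V : Set G), y * w = w * y) → w ∈ Z) : Flag S Z V where
  syl := syl
  ZV := ZV
  SV := SV
  Vo := Vo
  comm := comm
  sq := sq
  fixC := fun w hw hS hy c hc => (mem_centralizer_iff.1 hc w (fix w hw hS hy)).symm
  fixV := fun w hw hS => fix w (le_cl _ _ hw) hS fun _ hy => (mem_centralizer_iff.1 hy w hw).symm

/-- `D ∈ RR` -/
structure RR (S Z V D : Subgroup G) : Prop where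
  ZD : Z ≤ D
  DV : D ≤ V
  odd : ¬ 2 ∣ (S ⊓ centralizer (D : Set G)).relIndex (centralizer (D : Set G))
  fix : ∀ w ∈ cl V (centralizer (Z : Set G)), (∀ t ∈ S ⊓ centralizer (D : Set G), t * w = w * t) →
    (∀ y ∈ centralizer (V : Set G), y * w = w * y) → ∀ c ∈ centralizer (D : Set G), c * w = w * c

/-- `D` is a closed point -/
structure Clo (S Z V D : Subgroup G) : Prop extends RR S Z V D where
  clo : ∀ w ∈ V, (∀ t ∈ S ⊓ centralizer (D : Set G), t * w = w * t) → w ∈ D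

/-- `d ∈ L(w) = [T, w]` -/
def InL (T : Subgroup G) (w d : G) : Prop := ∃ t ∈ T, t * w * t⁻¹ * w⁻¹ = d

/-- the good set `lam` of a closed point `D ≠ V`; `T = T_D = S ⊓ C_G(D)` -/
structure GoodAt (T V D lam T₀ : Subgroup G) : Prop where
  Dle : D ≤ lam
  leV : lam ≤ V
  comm : ∀ w ∈ lam, ∀ t ∈ T, t * w * t⁻¹ * w⁻¹ ∈ D
  stab : ∀ w ∈ lam, w ∉ D → ∀ t ∈ T, (t * w = w * t ↔ t ∈ T₀)
  four : 4 * Nat.card D ≤ Nat.card lam
  inf : ∀ d : G, (∀ w ∈ lam, w ∉ D → InL T w d) → d = 1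
  off : ∀ w ∈ lam, w ∉ D → ∀ ε : Subgroup G, ε ≤ T → (∀ a ∈ ε, a * a = 1) →
    ∀ N : Subgroup G, (∀ x, x ∈ N ↔ x ∈ V ∧ ∀ a ∈ ε, InL T w (a * x * a⁻¹ * x⁻¹)) →
      (centralizer (V : Set G)).relIndex ε ≤ N.relIndex V
  eq : ∀ w ∈ lam, w ∉ D → ∀ ε : Subgroup G, ε ≤ T → (∀ a ∈ ε, a * a = 1) →
    ∀ N : Subgroup G, (∀ x, x ∈ N ↔ x ∈ V ∧ ∀ a ∈ ε, InL T w (a * x * a⁻¹ * x⁻¹)) →
      (centralizer (V : Set G)).relIndex ε = N.relIndex V → ∀ a ∈ ε, ∀ x ∈ V, a * x * a⁻¹ * x⁻¹ ∈ D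
  sq : ∀ ε : Subgroup G, ε ≤ T → (∀ a ∈ ε, a * a = 1) →
    (centralizer (V : Set G)).relIndex ε ^ 2 ≤ (centralizer (ε : Set G)).relIndex V

end Cfsg.Agent.Omega.NO3b.ClosedPt

end

section


/-!
# #19499 (0): the iterated trace lemma

* `trace'` : `W` elementary abelian, `X ≤ N(W)`, `T` a 2-group normalising `W`, `X` and `Y ≤ X`, `T ∩ X` of odd index
  in `X`, `C_W(T) ∩ C(Y) ≤ C(X)`. Then `C_W(T ∩ X) ∩ C(Y) ≤ C(X)` (helper133, #21097);
* `trace` : the case `Y = 1`: `C_W(T) ≤ C(X)` implies `C_W(T ∩ X) ≤ C(X)`.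
-/

set_option autoImplicit false

namespace Cfsg.Agent.Omega.NO3b.ClosedPt

open Subgroup Cfsg Cfsg.Agent.ZN Cfsg.Agent.ZN.ChoiceBase Cfsg.Agent.ZN.ChoiceSit
open Cfsg.Agent.Omega.NO3b.EZero

universe u

variable {G : Type u} [Group G]

/-- **the trace lemma** -/
theorem trace' [Finite G] {W X T Y : Subgroup G} (hcomm : ∀ a ∈ W, ∀ b ∈ W, a * b = b * a)
    (hsq : ∀ a ∈ W, a * a = 1) (hXW : X ≤ normalizer (W : Set G)) (hT : IsPGroup 2 T)
    (hTW : T ≤ normalizer (W : Set G)) (hTX : T ≤ normalizer (X : Set G))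
    (hYX : Y ≤ X) (hTY : T ≤ normalizer (Y : Set G)) (hodd : ¬ 2 ∣ (T ⊓ X).relIndex X)
    (hfix : ∀ w ∈ W, (∀ t ∈ T, t * w = w * t) → (∀ y ∈ Y, y * w = w * y) → ∀ x ∈ X, x * w = w * x) :
    ∀ w ∈ W, (∀ t ∈ T ⊓ X, t * w = w * t) → (∀ y ∈ Y, y * w = w * y) → ∀ x ∈ X, x * w = w * x := by
  classical
  let _ : CommGroup W := { (inferInstance : Group W) with
    mul_comm := fun a b => Subtype.ext (hcomm a a.2 b b.2) }
  set R := T ⊓ X with hR
  let Q := X ⧸ R.subgroupOf X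
  have : Fintype Q := Fintype.ofFinite Q
  have hcard : Odd (Fintype.card Q) := by
    rw [← Nat.card_eq_fintype_card, ← Nat.not_even_iff_odd, even_iff_two_dvd]
    exact hodd
  -- the subgroup `W₁ = C_W(T ∩ X) ∩ C(Y)`
  let W₁ : Subgroup G := W ⊓ (centralizer (R : Set G) ⊓ centralizer (Y : Set G))
  have hcj : ∀ {x : G}, x ∈ normalizer (W : Set G) → ∀ {w : G}, w ∈ W → x * w * x⁻¹ ∈ W := fun hx _ hw =>
    (mem_normalizer_iff.1 hx _).1 hw
  let F : W₁ → Q → W := fun w => Quotient.lift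
    (fun a : X => (⟨a * w * (a : G)⁻¹, hcj (hXW a.2) w.2.1⟩ : W)) (by
      intro a b hab
      apply Subtype.ext
      have hab' : (a : G)⁻¹ * b ∈ R := by have h := QuotientGroup.leftRel_apply.1 hab; exact h
      have h1 := mem_centralizer_iff.1 w.2.2.1 _ hab'
      change (a : G) * w * (a : G)⁻¹ = b * w * (b : G)⁻¹
      have e1 : (b : G) * w * (b : G)⁻¹ = a * (((a : G)⁻¹ * b) * w) * (b : G)⁻¹ := by group
      rw [e1, h1]
      group)
  have hF : ∀ (w : W₁) (a : X), ((F w (QuotientGroup.mk a) : W) : G) = a * w * (a : G)⁻¹ := fun _ _ => rfl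
  let P : W₁ → W := fun w => ∏ x : Q, F w x
  -- multiplicative
  have hPmul : ∀ v w : W₁, P (v * w) = P v * P w := by
    intro v w
    change ∏ x : Q, F (v * w) x = (∏ x : Q, F v x) * ∏ x : Q, F w x
    rw [← Finset.prod_mul_distrib]
    refine Finset.prod_congr rfl fun x _ => ?_
    induction x using QuotientGroup.induction_on with
    | H a =>
      apply Subtype.ext
      rw [coe_mul, hF, hF, hF]
      change (a : G) * (v * w : G) * (a : G)⁻¹ = _
      group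
  -- identity on `C_W(X)`
  have hPid : ∀ w : W₁, (∀ x ∈ X, x * (w : G) = w * x) → ((P w : W) : G) = w := by
    intro w hw
    have h1 : ∀ x : Q, F w x = ⟨w, w.2.1⟩ := by
      intro x
      induction x using QuotientGroup.induction_on with
      | H a =>
        apply Subtype.ext
        rw [hF, hw a a.2]
        group
    change ((∏ x : Q, F w x : W) : G) = _
    rw [Finset.prod_congr rfl fun x _ => h1 x, Finset.prod_const, Finset.card_univ]
    obtain ⟨k, hk⟩ := hcard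
    have h2 : (⟨w, w.2.1⟩ : W) * ⟨w, w.2.1⟩ = 1 := Subtype.ext (hsq _ w.2.1)
    rw [hk, pow_succ, pow_mul, pow_two, h2, one_pow, one_mul]
  -- image in `C_W(X)`
  have hPX : ∀ w : W₁, ∀ x ∈ X, x * ((P w : W) : G) = P w * x := by
    intro w x hx
    let c : W →* W :=
      { toFun := fun r => ⟨x * r * x⁻¹, hcj (hXW hx) r.2⟩
        map_one' := Subtype.ext (by simp)
        map_mul' := fun a b => Subtype.ext (by
          change x * (a * b : G) * x⁻¹ = x * a * x⁻¹ * (x * b * x⁻¹)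
          group) }
    have h1 : ∀ y : Q, F w ((⟨x, hx⟩ : X) • y) = c (F w y) := by
      intro y
      induction y using QuotientGroup.induction_on with
      | H a =>
        apply Subtype.ext
        change (x * a : G) * w * (x * a : G)⁻¹ = x * (a * w * (a : G)⁻¹) * x⁻¹
        group
    have h2 : P w = c (P w) := by
      change ∏ y : Q, F w y = c (∏ y : Q, F w y)
      rw [map_prod, ← Finset.prod_congr rfl fun y _ => h1 y]
      exact (Equiv.prod_comp (MulAction.toPerm (⟨x, hx⟩ : X)) _).symm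
    have h3 : ((P w : W) : G) = x * (P w : W) * x⁻¹ := congrArg Subtype.val h2
    calc x * ((P w : W) : G) = x * (P w : W) * x⁻¹ * x := by group
      _ = P w * x := by rw [← h3]
  -- `T`-equivariant
  have hRn : ∀ t ∈ T, ∀ r ∈ R, t⁻¹ * r * t ∈ R := fun t ht r hr =>
    mem_inf.2 ⟨mul_mem (mul_mem (inv_mem ht) hr.1) ht, (mem_normalizer_iff''.1 (hTX ht) _).1 hr.2⟩
  have hW₁ : ∀ t ∈ T, ∀ w ∈ W₁, t * w * t⁻¹ ∈ W₁ := by
    intro t ht w hw
    refine ⟨hcj (hTW ht) hw.1, mem_centralizer_iff.2 fun r hr => ?_, mem_centralizer_iff.2 fun r hr => ?_⟩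
    · have h1 := mem_centralizer_iff.1 hw.2.1 _ (hRn t ht r hr)
      have e1 : r * (t * w * t⁻¹) = t * (t⁻¹ * r * t * w) * t⁻¹ := by group
      rw [e1, h1]
      group
    · have h1 := mem_centralizer_iff.1 hw.2.2 _ ((mem_normalizer_iff''.1 (hTY ht) _).1 hr)
      have e1 : r * (t * w * t⁻¹) = t * (t⁻¹ * r * t * w) * t⁻¹ := by group
      rw [e1, h1]
      group
  have hPT : ∀ (t : G) (ht : t ∈ T) (w : W₁), ((P ⟨t * w * t⁻¹, hW₁ t ht w w.2⟩ : W) : G) = t * (P w : W) * t⁻¹ := by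
    intro t ht w
    let c : W →* W :=
      { toFun := fun r => ⟨t * r * t⁻¹, hcj (hTW ht) r.2⟩
        map_one' := Subtype.ext (by simp)
        map_mul' := fun a b => Subtype.ext (by
          change t * (a * b : G) * t⁻¹ = t * a * t⁻¹ * (t * b * t⁻¹)
          group) }
    have hXt : ∀ {x : G}, x ∈ X → t * x * t⁻¹ ∈ X := fun hx => (mem_normalizer_iff.1 (hTX ht) _).1 hx
    have hXt' : ∀ {x : G}, x ∈ X → t⁻¹ * x * t ∈ X := fun hx => (mem_normalizer_iff''.1 (hTX ht) _).1 hx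
    let e : Q ≃ Q :=
      { toFun := Quotient.map (fun a : X => (⟨t * a * t⁻¹, hXt a.2⟩ : X)) (by
          intro a b hab
          have hab' : (a : G)⁻¹ * b ∈ R := by have h := QuotientGroup.leftRel_apply.1 hab; exact h
          refine QuotientGroup.leftRel_apply.2 ?_
          change (t * (a : G) * t⁻¹)⁻¹ * (t * b * t⁻¹) ∈ R
          have h1 := hRn t⁻¹ (inv_mem ht) _ hab'
          have e1 : (t * (a : G) * t⁻¹)⁻¹ * (t * b * t⁻¹) = t⁻¹⁻¹ * ((a : G)⁻¹ * b) * t⁻¹ := by group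
          rw [e1]
          exact h1)
        invFun := Quotient.map (fun a : X => (⟨t⁻¹ * a * t, hXt' a.2⟩ : X)) (by
          intro a b hab
          have hab' : (a : G)⁻¹ * b ∈ R := by have h := QuotientGroup.leftRel_apply.1 hab; exact h
          refine QuotientGroup.leftRel_apply.2 ?_
          change (t⁻¹ * (a : G) * t)⁻¹ * (t⁻¹ * b * t) ∈ R
          have h1 := hRn t ht _ hab'
          have e1 : (t⁻¹ * (a : G) * t)⁻¹ * (t⁻¹ * b * t) = t⁻¹ * ((a : G)⁻¹ * b) * t := by group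
          rw [e1]
          exact h1)
        left_inv := by
          intro y
          induction y using QuotientGroup.induction_on with
          | H a =>
            refine congrArg (QuotientGroup.mk (s := R.subgroupOf X)) (Subtype.ext ?_)
            change t⁻¹ * (t * (a : G) * t⁻¹) * t = a
            group
        right_inv := by
          intro y
          induction y using QuotientGroup.induction_on with
          | H a =>
            refine congrArg (QuotientGroup.mk (s := R.subgroupOf X)) (Subtype.ext ?_)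
            change t * (t⁻¹ * (a : G) * t) * t⁻¹ = a
            group }
    have h1 : ∀ y : Q, F ⟨t * w * t⁻¹, hW₁ t ht w w.2⟩ (e y) = c (F w y) := by
      intro y
      induction y using QuotientGroup.induction_on with
      | H a =>
        apply Subtype.ext
        change (t * a * t⁻¹ : G) * (t * w * t⁻¹) * (t * a * t⁻¹ : G)⁻¹ = t * (a * w * (a : G)⁻¹) * t⁻¹
        group
    have h2 : P ⟨t * w * t⁻¹, hW₁ t ht w w.2⟩ = c (P w) := by
      change ∏ y : Q, F ⟨t * w * t⁻¹, hW₁ t ht w w.2⟩ y = c (∏ y : Q, F w y)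
      rw [map_prod, ← Finset.prod_congr rfl fun y _ => h1 y]
      exact (Equiv.prod_comp e _).symm
    exact congrArg Subtype.val h2
  -- the kernel
  let K : Subgroup G :=
    { carrier := {w | ∃ h : w ∈ W₁, P ⟨w, h⟩ = 1}
      mul_mem' := by
        rintro a b ⟨ha, ha'⟩ ⟨hb, hb'⟩
        refine ⟨mul_mem ha hb, ?_⟩
        have h1 := hPmul ⟨a, ha⟩ ⟨b, hb⟩
        rw [ha', hb', mul_one] at h1
        exact h1
      one_mem' := by
        refine ⟨one_mem _, Subtype.ext ?_⟩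
        have h1 := hPid 1 fun x _ => by simp
        exact h1
      inv_mem' := by
        rintro a ⟨ha, ha'⟩
        refine ⟨inv_mem ha, ?_⟩
        have h1 : a⁻¹ = a := inv_eq_of_mul_eq_one_right (hsq a ha.1)
        have h2 : (⟨a⁻¹, inv_mem ha⟩ : W₁) = ⟨a, ha⟩ := Subtype.ext h1
        rw [h2]
        exact ha' }
  have hK : K = ⊥ := by
    by_contra hne
    have hK2 : IsPGroup 2 K := fun x => ⟨1, Subtype.ext (by
      obtain ⟨x, hx, -⟩ := x
      change x ^ 2 ^ 1 = 1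
      rw [pow_one, pow_two]
      exact hsq x hx.1)⟩
    have hTK : T ≤ normalizer (K : Set G) := by
      intro t ht
      refine mem_normalizer_of_cj_le ?_
      intro x hx
      obtain ⟨h1, h2⟩ := mem_cj.1 hx
      have h3 := hPT t ht ⟨t⁻¹ * x * t, h1⟩
      have e1 : t * (t⁻¹ * x * t) * t⁻¹ = x := by group
      have hx₁ : x ∈ W₁ := by
        have := hW₁ t ht _ h1
        rwa [e1] at this
      refine ⟨hx₁, Subtype.ext ?_⟩
      rw [h2] at h3
      have h4 : (⟨t * (t⁻¹ * x * t) * t⁻¹, hW₁ t ht _ h1⟩ : W₁) = ⟨x, hx₁⟩ := Subtype.ext e1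
      rw [h4] at h3
      rw [h3, coe_one]
      group
    obtain ⟨c, hc, hc1, hcT⟩ := exists_fixed hK2 hne hT hTK
    obtain ⟨hcW, hcP⟩ := hc
    have h1 := hfix c hcW.1 (fun t ht => mem_centralizer_iff.1 hcT t ht)
      fun y hy => mem_centralizer_iff.1 hcW.2.2 y hy
    have h2 := hPid ⟨c, hcW⟩ h1
    rw [hcP] at h2
    exact hc1 h2.symm
  -- conclusion
  intro w hw hwR hwY
  have hw₁ : w ∈ W₁ := ⟨hw, mem_centralizer_iff.2 fun r hr => hwR r hr, mem_centralizer_iff.2 fun r hr => hwY r hr⟩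
  have hX₁ : ((P ⟨w, hw₁⟩ : W) : G) ∈ W₁ :=
    ⟨(P ⟨w, hw₁⟩).2, mem_centralizer_iff.2 fun r hr => hPX _ r hr.2, mem_centralizer_iff.2 fun r hr => hPX _ r (hYX hr)⟩
  have h1 : w * (P ⟨w, hw₁⟩ : W) ∈ K := by
    refine ⟨mul_mem hw₁ hX₁, Subtype.ext ?_⟩
    have h2 := hPmul ⟨w, hw₁⟩ ⟨_, hX₁⟩
    have h3 := hPid ⟨_, hX₁⟩ fun x hx => hPX _ x hx
    have h4 := congrArg Subtype.val h2
    change ((P ⟨w * (P ⟨w, hw₁⟩ : W), _⟩ : W) : G) = ((P ⟨w, hw₁⟩ : W) : G) * (P ⟨_, hX₁⟩ : W) at h4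
    rw [h4, h3]
    exact hsq _ (P ⟨w, hw₁⟩).2
  rw [hK, mem_bot] at h1
  have h2 : w = (P ⟨w, hw₁⟩ : W) := by
    have h3 := hsq _ (P ⟨w, hw₁⟩).2
    exact mul_right_cancel (h1.trans h3.symm)
  intro x hx
  have h3 := hPX ⟨w, hw₁⟩ x hx
  rw [← h2] at h3
  exact h3

/-- the trace lemma, `Y = 1` -/
theorem trace [Finite G] {W X T : Subgroup G} (hcomm : ∀ a ∈ W, ∀ b ∈ W, a * b = b * a)
    (hsq : ∀ a ∈ W, a * a = 1) (hXW : X ≤ normalizer (W : Set G)) (hT : IsPGroup 2 T)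
    (hTW : T ≤ normalizer (W : Set G)) (hTX : T ≤ normalizer (X : Set G))
    (hodd : ¬ 2 ∣ (T ⊓ X).relIndex X)
    (hfix : ∀ w ∈ W, (∀ t ∈ T, t * w = w * t) → ∀ x ∈ X, x * w = w * x) :
    ∀ w ∈ W, (∀ t ∈ T ⊓ X, t * w = w * t) → ∀ x ∈ X, x * w = w * x := fun w hw hf =>
  trace' (Y := ⊥) hcomm hsq hXW hT hTW hTX bot_le (fun t _ => mem_normalizer_iff_cj.2 (Subgroup.map_bot _)) hodd
    (fun w hw hf _ => hfix w hw hf) w hw hf fun y hy => by rw [mem_bot.1 hy]; simp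

end Cfsg.Agent.Omega.NO3b.ClosedPt

end
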