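import Cfsg.Agent.Mrg.Omega.NO3b.Closed.Point
import Cfsg.Agent.Mrg.Omega.ML.MinIrr


/-!
# #19499 (3), (4), (5): the count at one end of a maximal pair

* `greedy`, `greedy_eq` : the greedy count along the lines `V i` of `W`;
* `End S Z V D B` : one end of a maximal pair: `D` closed, `B ≤ O₂(C^u) ∩ C(V)`, `V^u = V`, `[B, W_D] ≠ 1`,
  `[B, W_{D₁}] = 1` for closed `D₁ > D`;
* `End.le_Q` : `B ≤ O₂(C_G(D₊) T_D)`; `End.E_le` : `E = {b ∈ B : [b, W^v] ≤ D} ≤ O₂(C_G(D))`;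
* `End.card_le` : `|B : C_B(W_D)| ≤ |W_D : C_{W_D}(B)|`; `End.of_eq` : the case of equality;
* `End.five` : (5).
-/

set_option autoImplicit false

namespace Cfsg.Agent.Omega.NO3b.ClosedPt

open Subgroup Cfsg Cfsg.Agent.ZN Cfsg.Agent.ZN.ChoiceBase Cfsg.Agent.ZN.ChoiceSit
open Cfsg.Agent.Omega.NO3b.EZero
open Cfsg.Agent.Omega.ML.Final (MLK GDat)

universe u v

variable {G : Type u} [Group G]

theorem rel_ne [Finite G] (A B : Subgroup G) : A.relIndex B ≠ 0 := index_ne_zero_of_finite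

theorem rel_pos [Finite G] (A B : Subgroup G) : 0 < A.relIndex B := Nat.pos_of_ne_zero (rel_ne A B)

theorem rel_left [Finite G] {A B : Subgroup G} (h : A ≤ B) (C : Subgroup G) : B.relIndex C ≤ A.relIndex C :=
  relIndex_le_of_le_left h (rel_ne _ _)

theorem rel_right [Finite G] {B C : Subgroup G} (h : B ≤ C) (A : Subgroup G) : A.relIndex B ≤ A.relIndex C :=
  relIndex_le_of_le_right h (rel_ne _ _)

theorem rel_congr {A B C : Subgroup G} (h : A ⊓ C = B ⊓ C) : A.relIndex C = B.relIndex C := by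
  rw [← inf_relIndex_right A C, h, inf_relIndex_right]

/-! ### the greedy count -/

section greedy

variable {ι : Type v} {E W : Subgroup G} {V : ι → Subgroup G} {N : Subgroup G → Subgroup G}

theorem greedy_step [Finite G] (hV : ∀ i, V i ≤ W) {F : Subgroup G} (i : ι) :
    (centralizer (W : Set G)).relIndex F = (centralizer (W : Set G)).relIndex (F ⊓ centralizer (V i : Set G)) *
      (centralizer (V i : Set G)).relIndex F := by
  have h1 : centralizer (W : Set G) ⊓ F ≤ F ⊓ centralizer (V i : Set G) :=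
    le_inf inf_le_right (inf_le_left.trans (cent_mono (hV i)))
  have h2 := relIndex_mul_relIndex _ _ _ h1 (inf_le_left : F ⊓ centralizer (V i : Set G) ≤ F)
  rw [inf_relIndex_right, inf_relIndex_left] at h2
  rw [← h2]
  congr 1
  refine rel_congr ?_
  rw [inf_assoc, inf_eq_right.2 (inf_le_left : F ⊓ centralizer (V i : Set G) ≤ F)]

theorem greedy [Finite G] (hV : ∀ i, V i ≤ W) (hW : W ≤ ⨆ i, V i)
    (anti : ∀ F ≤ E, ∀ F' ≤ F, N F ≤ N F') (NW : ∀ F ≤ E, N F ≤ W)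
    (cen : ∀ F ≤ E, ∀ i, V i ≤ N (F ⊓ centralizer (V i : Set G))) {m : ℕ}
    (loc : ∀ F ≤ E, ∀ i, (centralizer (V i : Set G)).relIndex F ^ m ≤ (N F).relIndex (V i)) :
    ∀ F ≤ E, (centralizer (W : Set G)).relIndex F ^ m ≤ (N F).relIndex W := by
  intro F
  induction hn : Nat.card F using Nat.strong_induction_on generalizing F with
  | _ n ih =>
    intro hF
    by_cases hc : F ≤ centralizer (W : Set G)
    · rw [relIndex_eq_one.2 hc, one_pow]
      exact rel_pos _ _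
    · have h1 : ∃ i, ¬ F ≤ centralizer (V i : Set G) := by
        by_contra h1
        push Not at h1
        exact hc (cent_symm (hW.trans (iSup_le fun i => cent_symm (h1 i))))
      obtain ⟨i, hi⟩ := h1
      set F' := F ⊓ centralizer (V i : Set G) with hF'
      have hlt : Nat.card F' < n := by
        rw [← hn]
        refine lt_of_le_of_ne (Subgroup.card_le_of_le inf_le_left) fun h2 => hi ?_
        have h3 : F' = F := Subgroup.eq_of_le_of_card_ge inf_le_left h2.ge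
        rw [← h3]
        exact inf_le_right
      have h2 := ih _ hlt F' rfl (inf_le_left.trans hF)
      have h3 : (N F).relIndex (N F') * (N F').relIndex W = (N F).relIndex W :=
        relIndex_mul_relIndex _ _ _ (anti F hF F' inf_le_left) (NW F' (inf_le_left.trans hF))
      rw [greedy_step hV i, mul_pow, ← h3, mul_comm]
      exact Nat.mul_le_mul ((loc F hF i).trans (rel_right (cen F hF i) _)) h2

theorem greedy_eq [Finite G] (hV : ∀ i, V i ≤ W) (hW : W ≤ ⨆ i, V i)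
    (anti : ∀ F ≤ E, ∀ F' ≤ F, N F ≤ N F') (NW : ∀ F ≤ E, N F ≤ W)
    (cen : ∀ F ≤ E, ∀ i, V i ≤ N (F ⊓ centralizer (V i : Set G)))
    (loc : ∀ F ≤ E, ∀ i, (centralizer (V i : Set G)).relIndex F ≤ (N F).relIndex (V i))
    (he : (centralizer (W : Set G)).relIndex E = (N E).relIndex W) (i : ι) :
    (centralizer (V i : Set G)).relIndex E = (N E).relIndex (V i) := by
  have h2 := greedy (m := 1) hV hW anti NW cen (fun F hF i => by rw [pow_one]; exact loc F hF i)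
    (E ⊓ centralizer (V i : Set G)) inf_le_left
  rw [pow_one] at h2
  have h3 : (N E).relIndex (N (E ⊓ centralizer (V i : Set G))) *
      (N (E ⊓ centralizer (V i : Set G))).relIndex W = (N E).relIndex W :=
    relIndex_mul_relIndex _ _ _ (anti E le_rfl _ inf_le_left) (NW _ inf_le_left)
  have h4 := loc E le_rfl i
  have h5 := rel_right (cen E le_rfl i) (N E)
  have h6 := greedy_step hV (F := E) i
  refine le_antisymm h4 ?_
  set a := (centralizer (W : Set G)).relIndex (E ⊓ centralizer (V i : Set G))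
  set b := (centralizer (V i : Set G)).relIndex E
  set A := (N (E ⊓ centralizer (V i : Set G))).relIndex W with hA
  set b' := (N E).relIndex (V i)
  set B' := (N E).relIndex (N (E ⊓ centralizer (V i : Set G)))
  have hA0 : 0 < A := rel_pos _ _
  have h7 : A * b' ≤ A * b := by
    calc A * b' ≤ A * B' := Nat.mul_le_mul_left _ h5
      _ = B' * A := mul_comm _ _
      _ = (N E).relIndex W := h3
      _ = a * b := by rw [← he, h6]
      _ ≤ A * b := Nat.mul_le_mul_right _ h2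
  exact Nat.le_of_mul_le_mul_left h7 hA0

end greedy

/-! ### commutators with an abelian group -/

/-- `[a, x y] = [a, x] [a, y]` in an abelian group normalised by `a` -/
theorem cm_mul {W A : Subgroup G} (hW : ∀ x ∈ W, ∀ y ∈ W, x * y = y * x) (hA : A ≤ normalizer (W : Set G))
    {a x y : G} (ha : a ∈ A) (hx : x ∈ W) (hy : y ∈ W) :
    a * (x * y) * a⁻¹ * (x * y)⁻¹ = (a * x * a⁻¹ * x⁻¹) * (a * y * a⁻¹ * y⁻¹) := by
  have h1 : x⁻¹ * (a * y * a⁻¹ * y⁻¹) = (a * y * a⁻¹ * y⁻¹) * x⁻¹ :=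
    hW _ (inv_mem hx) _ (mul_mem (cj_mem hA ha hy) (inv_mem hy))
  calc a * (x * y) * a⁻¹ * (x * y)⁻¹ = (a * x * a⁻¹) * ((a * y * a⁻¹ * y⁻¹) * x⁻¹) := by group
    _ = (a * x * a⁻¹) * (x⁻¹ * (a * y * a⁻¹ * y⁻¹)) := by rw [h1]
    _ = _ := by group

/-- `{x ∈ W : [A, x] ⊆ L}` for a subgroup `L` -/
def cw (W A L : Subgroup G) (hW : ∀ x ∈ W, ∀ y ∈ W, x * y = y * x) (hA : A ≤ normalizer (W : Set G)) :
    Subgroup G where
  carrier := {x | x ∈ W ∧ ∀ a ∈ A, a * x * a⁻¹ * x⁻¹ ∈ L}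
  mul_mem' := by
    rintro x y ⟨hx, hx'⟩ ⟨hy, hy'⟩
    refine ⟨mul_mem hx hy, fun a ha => ?_⟩
    rw [cm_mul hW hA ha hx hy]
    exact mul_mem (hx' a ha) (hy' a ha)
  one_mem' := ⟨one_mem _, fun a _ => by simp⟩
  inv_mem' := by
    rintro x ⟨hx, hx'⟩
    refine ⟨inv_mem hx, fun a ha => ?_⟩
    have h1 := cm_mul hW hA ha hx (inv_mem hx)
    have h2 : a * (x * x⁻¹) * a⁻¹ * (x * x⁻¹)⁻¹ = 1 := by group
    rw [h2] at h1
    have h3 : a * x⁻¹ * a⁻¹ * x⁻¹⁻¹ = (a * x * a⁻¹ * x⁻¹)⁻¹ := (inv_eq_of_mul_eq_one_right h1.symm).symm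
    rw [h3]
    exact inv_mem (hx' a ha)

/-- `{a ∈ A : [a, W] ⊆ Y}` for `A ≤ C(Y)` -/
def ke (A W Y : Subgroup G) (hA : A ≤ centralizer (Y : Set G)) : Subgroup G where
  carrier := {a | a ∈ A ∧ ∀ x ∈ W, a * x * a⁻¹ * x⁻¹ ∈ Y}
  mul_mem' := by
    rintro a b ⟨ha, ha'⟩ ⟨hb, hb'⟩
    refine ⟨mul_mem ha hb, fun x hx => ?_⟩
    have h1 := mem_centralizer_iff.1 (hA ha) _ (hb' x hx)
    have e1 : a * b * x * (a * b)⁻¹ * x⁻¹ = (a * (b * x * b⁻¹ * x⁻¹)) * a⁻¹ * (a * x * a⁻¹ * x⁻¹) := by group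
    rw [e1, ← h1]
    have e2 : b * x * b⁻¹ * x⁻¹ * a * a⁻¹ * (a * x * a⁻¹ * x⁻¹) = (b * x * b⁻¹ * x⁻¹) * (a * x * a⁻¹ * x⁻¹) := by
      group
    rw [e2]
    exact mul_mem (hb' x hx) (ha' x hx)
  one_mem' := ⟨one_mem _, fun x _ => by simp⟩
  inv_mem' := by
    rintro a ⟨ha, ha'⟩
    refine ⟨inv_mem ha, fun x hx => ?_⟩
    have h1 := mem_centralizer_iff.1 (hA ha) _ (inv_mem (ha' x hx))
    have e1 : a⁻¹ * x * a⁻¹⁻¹ * x⁻¹ = a⁻¹ * ((a * x * a⁻¹ * x⁻¹)⁻¹ * a) := by group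
    rw [e1, h1]
    have e2 : a⁻¹ * (a * (a * x * a⁻¹ * x⁻¹)⁻¹) = (a * x * a⁻¹ * x⁻¹)⁻¹ := by group
    rw [e2]
    exact inv_mem (ha' x hx)

/-- `L(v)` as a subgroup -/
theorem exists_L {T D : Subgroup G} {v : G} (hT : T ≤ centralizer (D : Set G))
    (hv : ∀ t ∈ T, t * v * t⁻¹ * v⁻¹ ∈ D) : ∃ L : Subgroup G, L ≤ D ∧ ∀ d, d ∈ L ↔ InL T v d := by
  refine ⟨{ carrier := {d | InL T v d}, mul_mem' := ?_, one_mem' := ⟨1, one_mem _, by simp⟩, inv_mem' := ?_ }, ?_,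
    fun d => Iff.rfl⟩
  · rintro _ _ ⟨a, ha, rfl⟩ ⟨b, hb, rfl⟩
    refine ⟨b * a, mul_mem hb ha, ?_⟩
    have h1 := mem_centralizer_iff.1 (hT hb) _ (hv a ha)
    have e1 : b * a * v * (b * a)⁻¹ * v⁻¹ = (b * (a * v * a⁻¹ * v⁻¹)) * b⁻¹ * (b * v * b⁻¹ * v⁻¹) := by group
    rw [e1, ← h1]
    group
  · rintro _ ⟨a, ha, rfl⟩
    refine ⟨a⁻¹, inv_mem ha, ?_⟩
    have h1 := mem_centralizer_iff.1 (hT ha) _ (inv_mem (hv a ha))
    have e1 : a⁻¹ * v * a⁻¹⁻¹ * v⁻¹ = a⁻¹ * ((a * v * a⁻¹ * v⁻¹)⁻¹ * a) := by group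
    rw [e1, h1]
    group
  · rintro _ ⟨a, ha, rfl⟩
    exact hv a ha

/-- `W^v = D⟨v^{C_G(D)}⟩` -/
def Wv (D : Subgroup G) (v : G) : Subgroup G := D ⊔ cl (zpowers v) (centralizer (D : Set G))

theorem D_le_Wv {D : Subgroup G} {v : G} : D ≤ Wv D v := le_sup_left

theorem cj_mem_Wv {D : Subgroup G} {v c : G} (hc : c ∈ centralizer (D : Set G)) : c * v * c⁻¹ ∈ Wv D v :=
  (le_sup_right : cl (zpowers v) (centralizer (D : Set G)) ≤ _) (cj_le_cl hc (mem_cj_self (mem_zpowers v)))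

theorem mem_Wv {D : Subgroup G} {v : G} : v ∈ Wv D v := by
  have := cj_mem_Wv (v := v) (one_mem (centralizer (D : Set G)))
  simpa using this

/-- `W^v` is generated by `D` and the `v^c` -/
theorem Wv_le {D U : Subgroup G} {v : G} (h1 : D ≤ U)
    (h2 : ∀ c ∈ centralizer (D : Set G), c * v * c⁻¹ ∈ U) : Wv D v ≤ U := by
  refine sup_le h1 (cl_le fun c hc => ?_)
  rintro _ ⟨x, hx, rfl⟩
  obtain ⟨n, rfl⟩ := mem_zpowers_iff.1 hx
  have h3 : (MulAut.conj c).toMonoidHom (v ^ n) = (c * v * c⁻¹) ^ n := by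
    rw [map_zpow]
    rfl
  rw [h3]
  exact zpow_mem (h2 c hc) n

theorem norm_Wv {D : Subgroup G} {v : G} : centralizer (D : Set G) ≤ normalizer (Wv D v : Set G) := by
  refine norm_of fun c hc x hx => ?_
  have h1 : Wv D v ≤ cj c⁻¹ (Wv D v) := by
    refine Wv_le (fun d hd => ?_) fun d hd => ?_
    · rw [mem_cj, inv_inv]
      have h2 := mem_centralizer_iff.1 hc d hd
      have e : c * d * c⁻¹ = d := by rw [← h2]; group
      rw [e]
      exact D_le_Wv hd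
    · rw [mem_cj, inv_inv]
      have e : c * (d * v * d⁻¹) * c⁻¹ = (c * d) * v * (c * d)⁻¹ := by group
      rw [e]
      exact cj_mem_Wv (mul_mem hc hd)
  have h2 := mem_cj.1 (h1 hx)
  rwa [inv_inv] at h2

/-! ### one end -/

/-- one end of a maximal pair -/
structure End (S Z V D B : Subgroup G) : Prop where
  flag : Flag S Z V
  clo : Clo S Z V D
  Bsq : ∀ b ∈ B, b * b = 1
  cent : B ≤ centralizer (V : Set G)
  ho : ∃ u : G, cj u V = V ∧ B ≤ o2 (cj u (centralizer (Z : Set G)))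
  ne : ¬ B ≤ centralizer (cl V (centralizer (D : Set G)) : Set G)
  max : ∀ D₁, Clo S Z V D₁ → D < D₁ → B ≤ centralizer (cl V (centralizer (D₁ : Set G)) : Set G)

/-- `T_D` normalises `⟨V^X⟩` for `X` normalised by `T_D` -/
theorem norm_cl {T V X : Subgroup G} (hV : T ≤ normalizer (V : Set G)) (hX : T ≤ normalizer (X : Set G)) :
    T ≤ normalizer (cl V X : Set G) := by
  refine norm_of fun t ht x hx => ?_
  have h1 : cl V X ≤ cj t⁻¹ (cl V X) := by
    refine cl_le fun c hc => ?_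
    have h2 : cj (t * c * t⁻¹) V ≤ cl V X := cj_le_cl (cj_mem hX ht hc)
    have h3 := cj_mono t⁻¹ h2
    rw [cj_cj] at h3
    have e : t⁻¹ * (t * c * t⁻¹) = c * t⁻¹ := by group
    rw [e, ← cj_cj, mem_normalizer_iff_cj.1 (inv_mem (hV ht))] at h3
    exact h3
  have h2 := mem_cj.1 (h1 hx)
  rwa [inv_inv] at h2

theorem norm_o2 {A B : Subgroup G} (h : A ≤ normalizer (B : Set G)) :
    A ≤ normalizer ((o2 B : Subgroup G) : Set G) := by
  intro a ha
  rw [mem_normalizer_iff_cj, ← o2_cj, mem_normalizer_iff_cj.1 (h ha)]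

/-- `O₂` of a normal subgroup -/
theorem o2_le_of [Finite G] {K X : Subgroup G} (hKX : K ≤ X) (hn : X ≤ normalizer (K : Set G)) : o2 K ≤ o2 X :=
  le_o2 (isPGroup_o2 K) ((o2_le K).trans hKX) (norm_o2 hn)

/-- a normal 2-subgroup of odd index 2-subgroups -/
theorem o2_le_odd [Finite G] {T X : Subgroup G} (hT : IsPGroup 2 T) (hTX : T ≤ X) (hodd : ¬ 2 ∣ T.relIndex X) :
    o2 X ≤ T := by
  have : Fact (Nat.Prime 2) := ⟨Nat.prime_two⟩
  have h1 : IsPGroup 2 (T ⊔ o2 X : Subgroup G) :=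
    IsPGroup.to_sup_of_normal_right' hT (isPGroup_o2 X) (hTX.trans (le_normalizer_o2 X))
  obtain ⟨n, hn⟩ := IsPGroup.iff_card.1 h1
  have h2 : T.relIndex (T ⊔ o2 X) ∣ 2 ^ n := by
    rw [← hn, ← card_mul_relIndex (le_sup_left : T ≤ T ⊔ o2 X)]
    exact Dvd.intro_left _ rfl
  obtain ⟨j, -, hj⟩ := (Nat.dvd_prime_pow Nat.prime_two).1 h2
  have h3 : T.relIndex (T ⊔ o2 X) * (T ⊔ o2 X).relIndex X = T.relIndex X :=
    relIndex_mul_relIndex _ _ _ le_sup_left (sup_le hTX (o2_le X))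
  rcases Nat.eq_zero_or_pos j with rfl | hj0
  · rw [pow_zero] at hj
    exact le_sup_right.trans (relIndex_eq_one.1 hj)
  · refine absurd ?_ hodd
    rw [← h3, hj]
    exact (dvd_pow_self 2 hj0.ne').trans (Dvd.intro _ rfl)

namespace End

variable {S Z V D B : Subgroup G} (e : End S Z V D B)
include e

theorem WD_le : cl V (centralizer (D : Set G)) ≤ cl V (centralizer (Z : Set G)) :=
  cl_le fun _ hp => cj_le_cl (e.clo.CD_le hp)

theorem WD_comm : ∀ a ∈ cl V (centralizer (D : Set G)), ∀ b ∈ cl V (centralizer (D : Set G)), a * b = b * a :=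
  fun a ha b hb => e.flag.Wcomm a (e.WD_le ha) b (e.WD_le hb)

theorem D_le_WD : D ≤ cl V (centralizer (D : Set G)) := e.clo.DV.trans (le_cl _ _)

theorem B_cent : B ≤ centralizer (D : Set G) := e.cent.trans (cent_mono e.clo.DV)

theorem D_ne : D ≠ V := by
  rintro rfl
  apply e.ne
  have h1 : cl D (centralizer (D : Set G)) ≤ D := by
    refine cl_le fun c hc => ?_
    rw [mem_normalizer_iff_cj.1 (centralizer_le_normalizer _ hc)]
  exact e.cent.trans (cent_mono h1)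

theorem T_le : S ⊓ centralizer (D : Set G) ≤ normalizer (V : Set G) := inf_le_left.trans e.flag.SV

variable {v : G}

theorem Wv_le_WD (hv : v ∈ V) : Wv D v ≤ cl V (centralizer (D : Set G)) :=
  Wv_le e.D_le_WD fun _ hc => cj_le_cl hc (mem_cj_self hv)

/-- `B ≤ O₂(C_G(D₊) T_D)` -/
theorem le_Q [Finite G] (hv : v ∈ V) (hvD : v ∉ D)
    (hvT : ∀ t ∈ S ⊓ centralizer (D : Set G), t * v * t⁻¹ * v⁻¹ ∈ D) :
    B ≤ o2 (centralizer (plus S V D v : Set G) ⊔ (S ⊓ centralizer (D : Set G))) := by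
  set P := plus S V D v with hP
  set K := centralizer (cl V (centralizer (P : Set G)) : Set G) with hK
  set X := centralizer (P : Set G) ⊔ (S ⊓ centralizer (D : Set G)) with hX
  have hKV : K ≤ centralizer (V : Set G) := cent_mono (le_cl _ _)
  have hKP : K ≤ centralizer (P : Set G) := hKV.trans (cent_mono inf_le_left)
  have hBK : B ≤ K := e.max P (e.clo.plus_clo e.flag hv hvT) (e.clo.lt_plus e.flag hv hvT hvD)
  obtain ⟨u, hu, hBu⟩ := e.ho
  have hKu : K ≤ cj u (centralizer (Z : Set G)) := by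
    rw [cj_centralizer]
    refine hKV.trans (cent_mono ?_)
    rw [← hu]
    exact cj_mono u e.flag.ZV
  have h1 : B ≤ o2 K := by
    have h2 : o2 (cj u (centralizer (Z : Set G))) ⊓ K ≤ o2 K :=
      le_o2 ((isPGroup_o2 _).to_le inf_le_left) inf_le_right
        (norm_inf (hKu.trans (le_normalizer_o2 _)) le_normalizer)
    exact (le_inf hBu hBK).trans h2
  refine h1.trans (o2_le_of (hKP.trans le_sup_left) ?_)
  have h3 : centralizer (P : Set G) ≤ normalizer (cl V (centralizer (P : Set G)) : Set G) := le_normalizer_cl _ _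
  have h4 : S ⊓ centralizer (D : Set G) ≤ normalizer (centralizer (P : Set G) : Set G) := by
    rw [e.clo.cent_plus e.flag hv hvT]
    exact norm_cent (norm_sup inf_le_right hvT)
  exact norm_cent (sup_le h3 (norm_cl e.T_le h4))

/-- `E = {b ∈ B : [b, W^v] ≤ D}` -/
def E (e : End S Z V D B) (v : G) : Subgroup G := ke B (Wv D v) D e.B_cent

theorem mem_E {a : G} : a ∈ e.E v ↔ a ∈ B ∧ ∀ x ∈ Wv D v, a * x * a⁻¹ * x⁻¹ ∈ D := Iff.rfl

theorem E_le_B : e.E v ≤ B := fun _ h => h.1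

/-- the members of `E` in terms of `{c ∈ C_G(D) : [c, v] ∈ D}` -/
theorem mem_E_iff (hv : v ∈ V) {a : G} :
    a ∈ e.E v ↔ a ∈ B ∧ ∀ c ∈ centralizer (D : Set G), c⁻¹ * a * c ∈ sv D v := by
  constructor
  · rintro ⟨h1, h2⟩
    refine ⟨h1, fun c hc => ⟨mul_mem (mul_mem (inv_mem hc) (e.B_cent h1)) hc, ?_⟩⟩
    have h3 := h2 _ (cj_mem_Wv (v := v) hc)
    have h4 := mem_centralizer_iff.1 (inv_mem hc) _ h3
    have e1 : c⁻¹ * a * c * v * (c⁻¹ * a * c)⁻¹ * v⁻¹ =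
      c⁻¹ * (a * (c * v * c⁻¹) * a⁻¹ * (c * v * c⁻¹)⁻¹) * c := by group
    rw [e1, ← h4]
    have e2 : a * (c * v * c⁻¹) * a⁻¹ * (c * v * c⁻¹)⁻¹ * c⁻¹ * c = a * (c * v * c⁻¹) * a⁻¹ * (c * v * c⁻¹)⁻¹ := by
      group
    rwa [e2]
  · rintro ⟨h1, h2⟩
    refine ⟨h1, ?_⟩
    have hBn : B ≤ normalizer (cl V (centralizer (D : Set G)) : Set G) := e.B_cent.trans (le_normalizer_cl _ _)
    have h3 : Wv D v ≤ cw (cl V (centralizer (D : Set G))) (zpowers a) D e.WD_comm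
        ((zpowers_le.2 h1).trans hBn) := by
      refine Wv_le (fun d hd => ⟨e.D_le_WD hd, ?_⟩) fun c hc => ⟨e.Wv_le_WD hv (cj_mem_Wv hc), ?_⟩
      · rintro b hb
        have h4 := mem_centralizer_iff.1 (e.B_cent ((zpowers_le.2 h1) hb)) d hd
        have e1 : b * d * b⁻¹ * d⁻¹ = 1 := by rw [← h4]; group
        rw [e1]
        exact one_mem _
      · -- powers of `a`
        have h5 : zpowers a ≤ ke (zpowers a) (zpowers (c * v * c⁻¹)) D ((zpowers_le.2 h1).trans e.B_cent) := by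
          refine zpowers_le.2 ⟨mem_zpowers a, ?_⟩
          have h6 : zpowers (c * v * c⁻¹) ≤ cw (cl V (centralizer (D : Set G))) (zpowers a) D e.WD_comm
              ((zpowers_le.2 h1).trans hBn) ⊔ ⊥ := by
            rw [sup_bot_eq]
            refine zpowers_le.2 ⟨e.Wv_le_WD hv (cj_mem_Wv hc), ?_⟩
            have h7 : zpowers a ≤ (sv D v).map (MulAut.conj c).toMonoidHom := by
              refine zpowers_le.2 ?_
              exact mem_cj.2 (h2 c hc)
            intro b hb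
            have h8 := mem_cj.1 (h7 hb)
            have h9 := mem_centralizer_iff.1 hc _ h8.2
            have e1 : b * (c * v * c⁻¹) * b⁻¹ * (c * v * c⁻¹)⁻¹ =
              c * (c⁻¹ * b * c * v * (c⁻¹ * b * c)⁻¹ * v⁻¹) * c⁻¹ := by group
            rw [e1, ← h9]
            have e2 : c⁻¹ * b * c * v * (c⁻¹ * b * c)⁻¹ * v⁻¹ * c * c⁻¹ =
              c⁻¹ * b * c * v * (c⁻¹ * b * c)⁻¹ * v⁻¹ := by group
            rw [e2]
            exact h8.2
          intro x hx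
          have h7 := h6 hx
          rw [sup_bot_eq] at h7
          exact h7.2 a (mem_zpowers a)
        intro b hb
        exact (h5 hb).2 _ (mem_zpowers _)
    intro x hx
    exact (h3 hx).2 a (mem_zpowers a)

/-- `E ≤ O₂(C_G(D))` -/
theorem E_le [Finite G] (hv : v ∈ V) (hvD : v ∉ D)
    (hvT : ∀ t ∈ S ⊓ centralizer (D : Set G), t * v * t⁻¹ * v⁻¹ ∈ D) :
    e.E v ≤ o2 (centralizer (D : Set G)) := by
  set N := ke (centralizer (D : Set G)) (Wv D v) D le_rfl with hN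
  have hNC : N ≤ centralizer (D : Set G) := fun a h => h.1
  have hNs : N ≤ sv D v := fun a h => ⟨h.1, h.2 v mem_Wv⟩
  rw [e.clo.c2 e.flag hv hvT] at hNs
  have hCN : centralizer (D : Set G) ≤ normalizer (N : Set G) := by
    refine norm_of fun c hc a ha => ⟨mul_mem (mul_mem hc ha.1) (inv_mem hc), fun x hx => ?_⟩
    have h1 := ha.2 _ (cj_mem' norm_Wv hc hx)
    have h2 := mem_centralizer_iff.1 hc _ h1
    have e1 : c * a * c⁻¹ * x * (c * a * c⁻¹)⁻¹ * x⁻¹ =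
      c * (a * (c⁻¹ * x * c) * a⁻¹ * (c⁻¹ * x * c)⁻¹) * c⁻¹ := by group
    rw [e1, ← h2]
    have e2 : a * (c⁻¹ * x * c) * a⁻¹ * (c⁻¹ * x * c)⁻¹ * c * c⁻¹ = a * (c⁻¹ * x * c) * a⁻¹ * (c⁻¹ * x * c)⁻¹ := by
      group
    rwa [e2]
  have h1 : e.E v ≤ o2 (centralizer (plus S V D v : Set G) ⊔ (S ⊓ centralizer (D : Set G))) ⊓ N :=
    fun a ha => ⟨e.le_Q hv hvD hvT ha.1, e.B_cent ha.1, ha.2⟩
  have h2 : o2 (centralizer (plus S V D v : Set G) ⊔ (S ⊓ centralizer (D : Set G))) ⊓ N ≤ o2 N :=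
    le_o2 ((isPGroup_o2 _).to_le inf_le_left) inf_le_right
      (norm_inf (hNs.trans (le_normalizer_o2 _)) le_normalizer)
  exact h1.trans (h2.trans (o2_le_of hNC hCN))

/-- `O₂(C_G(D)) ≤ T_D^c` -/
theorem o2_le_cj [Finite G] {c : G} (hc : c ∈ centralizer (D : Set G)) :
    o2 (centralizer (D : Set G)) ≤ cj c (S ⊓ centralizer (D : Set G)) := by
  have h1 := o2_le_odd (e.flag.two.to_le inf_le_left) (inf_le_right : S ⊓ centralizer (D : Set G) ≤ _) e.clo.odd
  have h2 := cj_mono c h1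
  rwa [mem_normalizer_iff_cj.1 (le_normalizer_o2 _ hc)] at h2

end End

end Cfsg.Agent.Omega.NO3b.ClosedPt
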