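import Cfsg.Agent.Omega.NO3b.Closed.Pow
import Cfsg.Agent.Mrg.Omega.NO3b.Closed.Base
import Mathlib.GroupTheory.NoncommPiCoprod


/-!
# `ClosedPt.GoodAt` from `V = E^k` and (NO) on `E` (#19901, #20057)

* `Pow.of_indep` : `V = ⨁ U_i`, `U_i` normalised by `S`, `S`-isomorphic to `U_{i₀}` ⟹ `Pow S V (U i₀) p`;
* `exists_good` : `Pow S V E p`, `|ι| ≥ 2`, `|ε : C_ε(V)| ≤ |E : C_E(ε)|` for elementary abelian `ε ≤ S` ⟹
  `ClosedPt.GoodAt (S ∩ C(D)) V D lam T₀` for all `D < V` with `D = C_V(C_S(D))`.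
-/

set_option autoImplicit false

namespace Cfsg.Agent.Omega.NO3b.ClosedPow

open Subgroup Cfsg

universe u v

variable {G : Type u} [Group G]

theorem Pow.of_indep {ι : Type v} [Finite ι] {S V : Subgroup G} {U : ι → Subgroup G} (i₀ : ι)
    (hS : ∀ i, S ≤ normalizer (U i : Set G)) (hVc : V ≤ centralizer (V : Set G)) (hind : iSupIndep U)
    (hsup : ⨆ i, U i = V) (f : ∀ i, U i₀ ≃* U i)
    (hf : ∀ i, ∀ s ∈ S, ∀ u u' : U i₀, (u' : G) = s * u * s⁻¹ → (f i u' : G) = s * f i u * s⁻¹) :
    ∃ p : ι → G → G, Pow S V (U i₀) p := by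
  classical
  have := Fintype.ofFinite ι
  have hUV : ∀ i, U i ≤ V := fun i => hsup ▸ le_iSup U i
  have hcomm : Pairwise fun i j : ι => ∀ x y : G, x ∈ U i → y ∈ U j → Commute x y := by
    intro i j _ x y hx hy
    exact (mem_centralizer_iff.1 (hVc (hUV i hx)) y (hUV j hy)).symm
  set θ := Subgroup.noncommPiCoprod hcomm with hθ
  have hinj : Function.Injective θ := Subgroup.injective_noncommPiCoprod_of_iSupIndep hind
  have hrange : θ.range = V := by rw [hθ, Subgroup.noncommPiCoprod_range, hsup]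
  have hmem : ∀ g, θ g ∈ V := fun g => hrange ▸ ⟨g, rfl⟩
  have hex : ∀ v ∈ V, ∃ g, θ g = v := fun v hv => by
    rw [← hrange] at hv
    exact hv
  -- conjugation
  have hconj : ∀ s ∈ S, ∀ g g' : (∀ i, U i), (∀ i, (g' i : G) = s * g i * s⁻¹) → θ g' = s * θ g * s⁻¹ := by
    intro s _ g g' hg
    have e1 : θ g = Finset.noncommProd Finset.univ (fun i => (g i : G))
        (fun i _ j _ hij => hcomm hij _ _ (g i).2 (g j).2) := Subgroup.noncommPiCoprod_apply hcomm g
    have e2 : θ g' = Finset.noncommProd Finset.univ (fun i => (g' i : G))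
        (fun i _ j _ hij => hcomm hij _ _ (g' i).2 (g' j).2) := Subgroup.noncommPiCoprod_apply hcomm g'
    have h1 : (MulAut.conj s).toMonoidHom (θ g) = θ g' := by
      rw [e1, e2]
      refine (Finset.map_noncommProd Finset.univ (fun i => (g i : G)) _ (MulAut.conj s).toMonoidHom).trans ?_
      refine Finset.noncommProd_congr rfl (fun i _ => ?_) _
      rw [hg i]
      rfl
    rw [← h1]
    rfl
  let q : G → (∀ i, U i) := fun v => if h : ∃ g, θ g = v then h.choose else 1
  have hq : ∀ g, q (θ g) = g := by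
    intro g
    have h1 : ∃ g', θ g' = θ g := ⟨g, rfl⟩
    have e : q (θ g) = h1.choose := dif_pos h1
    rw [e]
    exact hinj h1.choose_spec
  refine ⟨fun i v => ((f i).symm (q v i) : G), ?_⟩
  exact
    { nV := by
        intro s hs
        rw [← hsup]
        have h1 : ∀ x ∈ S, ∀ y ∈ ⨆ i, U i, x * y * x⁻¹ ∈ ⨆ i, U i := by
          intro x hx y hy
          have h2 : (⨆ i, U i) ≤ (⨆ i, U i).comap (MulAut.conj x).toMonoidHom := by
            refine iSup_le fun i => ?_
            intro z hz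
            exact le_iSup U i (conj_mem (hS i) hx hz)
          exact h2 hy
        exact le_norm_of h1 hs
      nE := hS i₀
      cV := hVc
      mem := fun i v _ => ((f i).symm (q v i)).2
      mul := by
        intro i v hv w hw
        obtain ⟨g, rfl⟩ := hex v hv
        obtain ⟨g', rfl⟩ := hex w hw
        rw [← map_mul, hq, hq, hq, Pi.mul_apply, map_mul]
        rfl
      inj := by
        intro v hv h1
        obtain ⟨g, rfl⟩ := hex v hv
        have h2 : g = 1 := by
          funext i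
          have h3 := h1 i
          rw [hq] at h3
          have h4 : (f i).symm (g i) = 1 := Subtype.ext h3
          rw [MulEquiv.map_eq_one_iff] at h4
          exact h4
        rw [h2, map_one]
      surj := by
        intro g hg
        refine ⟨θ fun i => f i ⟨g i, hg i⟩, hmem _, fun i => ?_⟩
        rw [hq, MulEquiv.symm_apply_apply]
      equi := by
        intro i s hs v hv
        obtain ⟨g, rfl⟩ := hex v hv
        have h1 := hconj s hs g (fun j => ⟨s * g j * s⁻¹, conj_mem (hS j) hs (g j).2⟩) fun j => rfl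
        rw [← h1, hq, hq]
        -- `f i (s u s⁻¹) = s (f i u) s⁻¹` with `u = (f i)⁻¹ (g i)`
        set w := (f i).symm (g i) with hw
        have h2 := hf i s hs w ⟨s * w * s⁻¹, conj_mem (hS i₀) hs w.2⟩ rfl
        have h3 : f i ⟨s * w * s⁻¹, conj_mem (hS i₀) hs w.2⟩ = ⟨s * g i * s⁻¹, conj_mem (hS i) hs (g i).2⟩ := by
          apply Subtype.ext
          rw [h2, hw, MulEquiv.apply_symm_apply]
        have h4 := congrArg (f i).symm h3
        rw [MulEquiv.symm_apply_apply] at h4
        rw [← h4] }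

/-- **`ClosedPt.GoodAt` exists.** -/
theorem exists_good [Finite G] {ι : Type v} [Finite ι] {S V E D : Subgroup G} {p : ι → G → G}
    (h : Pow S V E p) (hk : 2 ≤ Nat.card ι) (hS : IsPGroup 2 S) (hsq : ∀ v ∈ V, v * v = 1)
    (hno : ∀ ε : Subgroup G, ε ≤ S → (∀ a ∈ ε, a * a = 1) →
      (centralizer (V : Set G)).relIndex ε ≤ (centralizer (ε : Set G)).relIndex E)
    (hne : D ≠ V)
    (hclo : ∀ w, w ∈ D ↔ w ∈ V ∧ ∀ t ∈ S ⊓ centralizer (D : Set G), t * w = w * t) :
    ∃ lam T₀ : Subgroup G, ClosedPt.GoodAt (S ⊓ centralizer (D : Set G)) V D lam T₀ := by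
  set T := S ⊓ centralizer (D : Set G) with hTdef
  have hT : T ≤ S := inf_le_left
  have hV2 : IsPGroup 2 V := fun x => ⟨1, Subtype.ext (by simpa [pow_two] using hsq x x.2)⟩
  have hTV : T ≤ normalizer (V : Set G) := hT.trans h.nV
  have hDeq : V ⊓ centralizer (T : Set G) = D := by
    ext w
    rw [hclo w, mem_inf, mem_centralizer_iff]
    rfl
  have hnc : ¬ V ≤ centralizer (T : Set G) := fun h0 => hne (by rw [← hDeq]; exact inf_eq_left.2 h0)
  obtain ⟨lam, T₀, g⟩ := h.exists_good hT hk (hS.to_le hT) hV2 hnc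
  have hnD : ∀ w ∈ lam, w ∉ D → w ∉ centralizer (T : Set G) := by
    intro w hw hwD h0
    apply hwD
    rw [← hDeq]
    exact ⟨g.leV hw, h0⟩
  have hcD : ∀ w ∈ V, w ∉ centralizer (T : Set G) → w ∉ D := by
    intro w _ h0 hwD
    rw [← hDeq] at hwD
    exact h0 hwD.2
  have hNeq : ∀ w ∈ lam, ∀ ε : Subgroup G, ε ≤ T → ∀ N : Subgroup G,
      (∀ x, x ∈ N ↔ x ∈ V ∧ ∀ a ∈ ε, ClosedPt.InL T w (a * x * a⁻¹ * x⁻¹)) → N = NN V ε (LL T w) := by
    intro w hw ε hε N hN
    ext x
    rw [hN, mem_NN h.cV (hε.trans hTV)]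
    refine and_congr_right fun _ => forall₂_congr fun a _ => ?_
    rw [mem_LL (g.fix w hw)]
    rfl
  have hrE : ∀ ε : Subgroup G, 0 < (centralizer (ε : Set G)).relIndex E := fun ε =>
    Nat.pos_of_ne_zero index_ne_zero_of_finite
  have hpow : ∀ ε : Subgroup G, (centralizer (ε : Set G)).relIndex E ≤
      (centralizer (ε : Set G)).relIndex E ^ (Nat.card ι - 1) := fun ε =>
    Nat.le_self_pow (by omega) _
  refine ⟨lam, T₀, ?_⟩
  exact
    { Dle := hDeq ▸ g.le
      leV := g.leV
      comm := by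
        intro w hw t ht
        rw [← hDeq]
        exact ⟨cm_mem hTV ht (g.leV hw), g.fix w hw t ht⟩
      stab := by
        intro w hw hwD t ht
        exact (g.mem_T₀ hw (hnD w hw hwD) ht).symm
      four := by
        have h1 := g.four
        rw [hDeq] at h1
        have h2 := relIndex_mul_relIndex ⊥ D lam bot_le (hDeq ▸ g.le)
        rw [relIndex_bot_left, relIndex_bot_left] at h2
        rw [← h2, mul_comm 4]
        exact Nat.mul_le_mul_left _ h1
      inf := by
        intro d hd
        exact g.inter d fun w hw hwT => hd w hw (hcD w (g.leV hw) hwT)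
      off := by
        intro w hw hwD ε hε hε2 N hN
        rw [hNeq w hw ε hε N hN]
        exact (hno ε (hε.trans hT) hε2).trans ((hpow ε).trans (h.loc hT g hε hw (hnD w hw hwD)).1)
      eq := by
        intro w hw hwD ε hε hε2 N hN heq a ha x hx
        rw [hNeq w hw ε hε N hN] at heq
        have h1 := h.loc hT g hε hw (hnD w hw hwD)
        have h2 : (centralizer (ε : Set G)).relIndex E ^ (Nat.card ι - 1) = (NN V ε (LL T w)).relIndex V :=
          le_antisymm h1.1 (by rw [← heq]; exact (hno ε (hε.trans hT) hε2).trans (hpow ε))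
        rw [← hDeq]
        exact ⟨cm_mem hTV (hε ha) hx, h1.2 h2 x hx a ha⟩
      sq := by
        intro ε hε hε2
        rw [h.index_cent (hε.trans hT)]
        calc (centralizer (V : Set G)).relIndex ε ^ 2 ≤ (centralizer (ε : Set G)).relIndex E ^ 2 :=
              Nat.pow_le_pow_left (hno ε (hε.trans hT) hε2) 2
          _ ≤ _ := Nat.pow_le_pow_right (hrE ε) hk }

end Cfsg.Agent.Omega.NO3b.ClosedPow
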